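import Cfsg.Agent.H732.DS.McLDeg
import Cfsg.Agent.H704.Enum
import Cfsg.Agent.H704.DegOK

/-!
# `McL` does not fit into `S_11` (helper732, task MCL-ELEVEN for S4906)
-/

set_option autoImplicit false

namespace Cfsg.Agent.H732.DS

open Cfsg Cfsg.Spor Subgroup Cfsg.Agent.H704

universe u v

theorem not_isDeg_eleven : ¬ IsDeg 11 22 := by
  intro h
  have h1 := check_of_isDeg (chk := fun d => !(Nat.beq d 22)) (n := 11) (by decide +kernel) h
  exact absurd h1 (by decide)

/-- **`McL` and `McL.2` have the degree 22, which is not a degree of `S_11`.** -/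
theorem mcl_eleven {A : Type u} [Group A] [Finite A] (S : Subgroup A) [S.Normal] (h : Spor.IsoMcL S)
    (hind : S.index ∣ 2) : ¬ ∀ ψ : A → ℂ, IsIrrCharacter A ψ → ∃ d : ℕ, IsDeg 11 d ∧ ψ 1 = d := by
  intro hd
  obtain ⟨χ, hχ, h1⟩ := exists_22_of_index S h hind
  obtain ⟨d, hd1, hd2⟩ := hd χ hχ
  rw [h1] at hd2
  have h3 : (22 : ℕ) = d := by exact_mod_cast hd2
  rw [← h3] at hd1
  exact not_isDeg_eleven hd1

end Cfsg.Agent.H732.DS
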