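import Cfsg.Agent.H34.SporMcL
import Cfsg.Agent.S0886

/-!
# The degree 22 of `McL` and of its overgroups (helper732, task MCL-ELEVEN for S4906)
-/

set_option autoImplicit false

namespace Cfsg.Agent.H732.DS

open Cfsg Cfsg.Spor Subgroup
open Cfsg.Agent.H997.OutMcL Cfsg.Agent Cfsg.Agent.H997 Cfsg.Agent.H713.Spor.McL Cfsg.Agent.H419.LeechIrr
open Cfsg.Agent.SporadicRecognition.HSRank Cfsg.Agent.H635.Spor

universe u v

/-- `McL` has an irreducible character of degree 22 which is invariant under all automorphisms -/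
theorem exists_inv_22 : ∃ α : McL → ℂ, IsIrrCharacter McL α ∧ α 1 = 22 ∧ AutInv α := by
  obtain ⟨hfin, hsimple, hcard, -⟩ := TypeM.FactsMcL.exists_mt_mcl
  have := Fintype.ofFinite McL
  obtain ⟨μ, hμ1, hμ⟩ := exists_22
  have hμd := Cfsg.Agent.H713.Spor.HS.degree_of_lchi hμ
  obtain ⟨α, hα⟩ : ∃ α : IrrCharacter McL, (α : McL → ℂ) = (μ : ↥(K (-leechV) leechU) → ℂ) ∘ mclEquiv :=
    ⟨⟨_, Characters.Core.isIrr_comp mclEquiv.toMonoidHom mclEquiv.surjective μ.2⟩, rfl⟩
  have hαd : charDegree (α : McL → ℂ) = 22 := by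
    rw [hα]
    have := H687.charDegree_comp mclEquiv.toMonoidHom (μ : ↥(K (-leechV) leechU) → ℂ)
    rw [show (μ : ↥(K (-leechV) leechU) → ℂ) ∘ mclEquiv = (μ : ↥(K (-leechV) leechU) → ℂ) ∘ mclEquiv.toMonoidHom from rfl,
      this]
    omega
  have hinv : AutInv (α : McL → ℂ) := by
    intro σ x
    obtain ⟨c, hc⟩ := Cfsg.Agent.H34.SporMcL.exists_conj σ
    have h1 : ∀ y : McL, (α : McL → ℂ) y = (Co2Type.Mono.tr8 (⟨y, (mem_McL.1 y.2).1⟩ : Co0) : ℂ) / 8 - 2 := by
      intro y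
      have h2 := hμ (mclEquiv y)
      have h3 : lchi (K (-leechV) leechU).subtype (mclEquiv y) =
          (Co2Type.Mono.tr8 (⟨y, (mem_McL.1 y.2).1⟩ : Co0) : ℂ) / 8 := rfl
      rw [h3] at h2
      rw [hα, h2]
      simp
    rw [h1, h1]
    congr 3
    have h4 : (⟨(σ x : McL), (mem_McL.1 (σ x).2).1⟩ : Co0) = c * ⟨x, (mem_McL.1 x.2).1⟩ * c⁻¹ :=
      Subtype.ext (hc x)
    rw [h4]
    exact Co2Type.Mono.tr8_conj _ _
  refine ⟨α, α.2, ?_, hinv⟩
  rw [Cfsg.Agent.Blocks.Basic.irr_one_eq_charDegree α.2, hαd]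
  norm_num

/-- **the degree 22**, for every group `A` with a normal subgroup `McL` of index one or two -/
theorem exists_22_of_index {A : Type u} [Group A] [Finite A] (S : Subgroup A) [hS : S.Normal] (h : Spor.IsoMcL S)
    (hind : S.index ∣ 2) : ∃ χ : A → ℂ, IsIrrCharacter A χ ∧ χ 1 = 22 := by
  obtain ⟨e⟩ := h
  obtain ⟨α, hα, h1, hinv⟩ := exists_inv_22
  have hcyc : IsCyclic (A ⧸ S) := by
    rcases (Nat.dvd_prime Nat.prime_two).1 hind with h2 | h2
    · have : Subsingleton (A ⧸ S) := by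
        have h3 : Nat.card (A ⧸ S) = 1 := h2
        exact (Nat.card_eq_one_iff_unique.1 h3).1
      infer_instance
    · have : Fact (Nat.Prime 2) := ⟨Nat.prime_two⟩
      exact isCyclic_of_prime_card (p := 2) h2
  obtain ⟨χ, hχ, hr⟩ := S0886.result S hcyc (α ∘ e) (Characters.Core.isIrr_comp e.toMonoidHom e.surjective hα) (by
    intro g n
    have h2 := hinv ((e.symm.trans (MulAut.conjNormal g)).trans e) (e n)
    have h3 : (((e.symm.trans (MulAut.conjNormal g)).trans e) (e n)) = e (MulAut.conjNormal g n) := by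
      simp
    rw [h3] at h2
    exact h2)
  refine ⟨χ, hχ, ?_⟩
  have h2 := hr 1
  rw [show ((1 : S) : A) = 1 from rfl] at h2
  rw [h2, Function.comp_apply, map_one, h1]

end Cfsg.Agent.H732.DS
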